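import Groth.Agent.EtFLC.Site
import Groth.Agent.EtMV.Free
import Groth.Agent.EtPullExact.Basic

/-!
# A Čech cocycle of an étale object becomes a coboundary in an injective sheaf
-/

set_option autoImplicit false
set_option backward.isDefEq.respectTransparency false
set_option backward.isDefEq.respectTransparency.types false
set_option linter.style.haveILetI false

universe u

open CategoryTheory CategoryTheory.Limits AlgebraicGeometry Opposite
open Groth.Agent.EtFLC (res res_res res_id)

noncomputable section

namespace Groth.Agent.EtH1PBC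

variable {X : Scheme.{u}} (E : X.Etale)

/-- points of `E` -/
abbrev Pts (T : X.Etale) : Type (u + 1) := ULift.{u + 1} (T ⟶ E)

/-- functoriality -/
def ptsMap {T T' : X.Etale} (f : T' ⟶ T) (a : Pts E T) : Pts E T' := ⟨f ≫ a.down⟩

/-- free abelian presheaf on the points of `E` -/
def freePts : X.Etaleᵒᵖ ⥤ AddCommGrpCat.{u + 1} where
  obj T := AddCommGrpCat.of (FreeAbelianGroup (Pts E T.unop))
  map f := AddCommGrpCat.ofHom (FreeAbelianGroup.map (ptsMap E f.unop))
  map_id T := by
    ext : 1
    refine FreeAbelianGroup.lift_ext _ _ fun a => (FreeAbelianGroup.map_of_apply a).trans ?_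
    exact congrArg FreeAbelianGroup.of (ULift.ext _ _ (Category.id_comp _))
  map_comp f g := by
    ext : 1
    refine FreeAbelianGroup.lift_ext _ _ fun a => ?_
    refine (FreeAbelianGroup.map_of_apply a).trans ?_
    change _ = FreeAbelianGroup.map (ptsMap E g.unop) (FreeAbelianGroup.map (ptsMap E f.unop) (FreeAbelianGroup.of a))
    rw [FreeAbelianGroup.map_of_apply, FreeAbelianGroup.map_of_apply]
    exact congrArg FreeAbelianGroup.of (ULift.ext _ _ (Category.assoc _ _ _))

/-- the degree -/
def degPts (T : X.Etale) : FreeAbelianGroup (Pts E T) →+ ℤ := FreeAbelianGroup.lift fun _ => 1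

theorem degPts_map {T T' : X.Etale} (f : T' ⟶ T) (x : FreeAbelianGroup (Pts E T)) :
    degPts E T' (FreeAbelianGroup.map (ptsMap E f) x) = degPts E T x :=
  DFunLike.congr_fun (FreeAbelianGroup.lift_ext ((degPts E T').comp (FreeAbelianGroup.map (ptsMap E f)))
    (degPts E T) fun a => by simp [degPts]) x

/-- the degree zero part -/
def degZeroPts : X.Etaleᵒᵖ ⥤ AddCommGrpCat.{u + 1} where
  obj T := AddCommGrpCat.of (degPts E T.unop).ker
  map {T T'} f := AddCommGrpCat.ofHom
    ((((freePts E).map f).hom.comp (degPts E T.unop).ker.subtype).codRestrict (degPts E T'.unop).ker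
      (fun x => (degPts_map E f.unop x.1).trans x.2))
  map_id T := by
    ext x
    exact ConcreteCategory.congr_hom ((freePts E).map_id T) x.1
  map_comp f g := by
    ext x
    exact ConcreteCategory.congr_hom ((freePts E).map_comp f g) x.1

/-- the inclusion -/
def degZeroPtsι : degZeroPts E ⟶ freePts E where
  app T := AddCommGrpCat.ofHom (degPts E T.unop).ker.subtype
  naturality T T' f := by
    ext x
    rfl

instance : Mono (degZeroPtsι E) := by
  haveI : ∀ T, Mono ((degZeroPtsι E).app T) := fun T =>
    (AddCommGrpCat.mono_iff_injective _).2 fun x y h => Subtype.ext h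
  exact NatTrans.mono_of_mono_app _

variable {G I : EtCoh.Ab X}

/-- **a cocycle of an étale object becomes a coboundary in an injective sheaf** -/
theorem exists_split [Injective I] (e : G ⟶ I) (c : ∀ T : X.Etale, (T ⟶ E) → (T ⟶ E) → EtCoh.sect G T)
    (hc : ∀ (T : X.Etale) (a b d : T ⟶ E), c T a b + c T b d = c T a d)
    (hn : ∀ {T T' : X.Etale} (f : T' ⟶ T) (a b : T ⟶ E), res G f (c T a b) = c T' (f ≫ a) (f ≫ b)) :
    ∃ i : EtCoh.sect I E, ∀ (T : X.Etale) (a b : T ⟶ E),
      res I a i - res I b i = e.hom.app (op T) (c T a b) := by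
  classical
  let base : ∀ (T : X.Etale), Pts E T → Pts E T := fun T t => if h : Nonempty (Pts E T) then h.some else t
  let α : ∀ T : X.Etale, FreeAbelianGroup (Pts E T) →+ EtCoh.sect G T := fun T =>
    FreeAbelianGroup.lift fun t => c T t.down (base T t).down
  have hchange : ∀ {T : X.Etale} (a : Pts E T) (x : FreeAbelianGroup (Pts E T)), degPts E T x = 0 →
      α T x = FreeAbelianGroup.lift (fun t : Pts E T => c T t.down a.down) x := by
    intro T a x hx
    have h : α T = FreeAbelianGroup.lift (fun t : Pts E T => c T t.down a.down) +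
        (zmultiplesHom _ (c T a.down (base T a).down)).comp (degPts E T) := by
      refine FreeAbelianGroup.lift_ext _ _ fun t => ?_
      have hne : Nonempty (Pts E T) := ⟨a⟩
      have hb : base T t = base T a := (dif_pos hne).trans (dif_pos hne).symm
      simp only [α, FreeAbelianGroup.lift_apply_of, AddMonoidHom.add_apply, AddMonoidHom.comp_apply, degPts,
        zmultiplesHom_apply, one_zsmul, hb, hc]
    rw [h, AddMonoidHom.add_apply, AddMonoidHom.comp_apply, hx, map_zero, add_zero]
  let A : degZeroPts E ⟶ G.obj :=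
    { app := fun T => AddCommGrpCat.ofHom ((α T.unop).comp (degPts E T.unop).ker.subtype)
      naturality := fun T T' f => by
        ext x
        change α T'.unop (FreeAbelianGroup.map (ptsMap E f.unop) x.1) = res G f.unop (α T.unop x.1)
        by_cases h : Nonempty (Pts E T.unop)
        · obtain ⟨a⟩ := h
          rw [hchange (ptsMap E f.unop a) _ ((degPts_map E f.unop x.1).trans x.2), hchange a _ x.2]
          exact DFunLike.congr_fun (FreeAbelianGroup.lift_ext
            ((FreeAbelianGroup.lift fun t : Pts E T'.unop => c T'.unop t.down (ptsMap E f.unop a).down).comp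
              (FreeAbelianGroup.map (ptsMap E f.unop)))
            ((res G f.unop).comp (FreeAbelianGroup.lift fun t : Pts E T.unop => c T.unop t.down a.down))
            fun t => by
              simp only [AddMonoidHom.comp_apply, FreeAbelianGroup.map_of_apply, FreeAbelianGroup.lift_apply_of, hn]
              rfl) x.1
        · haveI : IsEmpty (Pts E T.unop) := not_nonempty_iff.1 h
          rw [Subsingleton.elim x.1 0, map_zero, map_zero, map_zero, map_zero] }
  haveI : Injective I.obj := EtPullExact.presheaf_injective I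
  let β : freePts E ⟶ I.obj := Injective.factorThru (A ≫ e.hom) (degZeroPtsι E)
  have hβ : degZeroPtsι E ≫ β = A ≫ e.hom := Injective.comp_factorThru _ _
  have hnat : ∀ {T T' : X.Etale} (f : T' ⟶ T) (a : Pts E T),
      res I f (β.app (op T) (FreeAbelianGroup.of a)) = β.app (op T') (FreeAbelianGroup.of (ptsMap E f a)) :=
    fun f a => ((NatTrans.naturality_apply β f.op (FreeAbelianGroup.of a)).symm.trans
      (congrArg _ (FreeAbelianGroup.map_of_apply a)))
  refine ⟨β.app (op E) (FreeAbelianGroup.of (⟨𝟙 E⟩ : Pts E E)), fun T a b => ?_⟩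
  rw [hnat, hnat]
  rw [show ptsMap E a ⟨𝟙 E⟩ = ⟨a⟩ from ULift.ext _ _ (Category.comp_id a),
    show ptsMap E b ⟨𝟙 E⟩ = ⟨b⟩ from ULift.ext _ _ (Category.comp_id b)]
  have hx : degPts E T (FreeAbelianGroup.of (⟨a⟩ : Pts E T) - FreeAbelianGroup.of ⟨b⟩) = 0 := by simp [degPts]
  have h := ConcreteCategory.congr_hom (NatTrans.congr_app hβ (op T)) ⟨_, hx⟩
  change β.app _ (FreeAbelianGroup.of (⟨a⟩ : Pts E T) - FreeAbelianGroup.of ⟨b⟩) =
    e.hom.app _ (α T (FreeAbelianGroup.of (⟨a⟩ : Pts E T) - FreeAbelianGroup.of ⟨b⟩)) at h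
  rw [map_sub] at h
  rw [h, hchange ⟨b⟩ _ hx, map_sub, FreeAbelianGroup.lift_apply_of, FreeAbelianGroup.lift_apply_of]
  refine congrArg _ ?_
  rw [show c T b b = 0 from left_eq_add.1 (hc T b b b).symm, sub_zero]

end Groth.Agent.EtH1PBC
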