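import Groth.Agent.EtH0Pair.Const
import Groth.Agent.FEtHens.Basic

/-!
# Sections over étale schemes with the clopen lifting property
-/

set_option autoImplicit false
set_option backward.isDefEq.respectTransparency false
set_option linter.style.haveILetI false
set_option maxHeartbeats 1000000

universe u

open CategoryTheory CategoryTheory.Limits AlgebraicGeometry Opposite

noncomputable section

namespace Groth.Agent.EtH1PBC

open Groth.Agent.EtH0Pair

variable {Z X : Scheme.{u}} (i : Z ⟶ X)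

/-- sections of the inverse image come locally from sections -/
theorem exists_unit_near' (F : EtCoh.Ab X) (U : X.Etale)
    (σ : EtCoh.sect ((EtCoh.pull i).obj F) ((EtCoh.bc i).obj U)) (p : ((EtCoh.bc i).obj U).left) :
    ∃ (V : X.Etale) (a : V ⟶ U) (t : EtCoh.sect F V) (q : ((EtCoh.bc i).obj V).left),
      ((EtCoh.bc i).map a).left q = p ∧
      q ∉ EtShriek.sectSupp ((EtCoh.pull i).obj F) ((EtCoh.bc i).obj V)
        (((EtCoh.pull i).obj F).obj.map ((EtCoh.bc i).map a).op σ - unitSec i F V t) := by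
  obtain ⟨Ω, _, _, η, -, hη⟩ := EtStalk.covers_all (X := ((EtCoh.bc i).obj U).left) p
  let ξ : Spec (CommRingCat.of Ω) ⟶ Z := η ≫ pullback.snd U.hom i
  let v₀ : Over.mk (ξ ≫ i) ⟶ (Scheme.Etale.forget X).obj U :=
    Over.homMk (η ≫ pullback.fst U.hom i)
      ((Category.assoc _ _ _).trans ((congrArg (η ≫ ·) pullback.condition).trans (Category.assoc _ _ _).symm))
  have hup : (EtPushStalk.up i ξ v₀).left = η := by
    change pullback.lift v₀.left ξ _ = η
    apply pullback.hom_ext
    · rw [pullback.lift_fst]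
      rfl
    · rw [pullback.lift_snd]
  obtain ⟨z, hz⟩ := ((ConcreteCategory.isIso_iff_bijective ((EtStalk.stalkPullIso i ξ).hom.app F)).mp inferInstance).2
    ((Scheme.pointSmallEtale ξ).toPresheafFiber ((EtCoh.bc i).obj U) (EtPushStalk.up i ξ v₀)
      ((EtCoh.pull i).obj F).obj σ)
  obtain ⟨V₁, v₁, t₁, rfl⟩ := (Scheme.pointSmallEtale (ξ ≫ i)).toPresheafFiber_jointly_surjective (P := F.obj) z
  obtain ⟨V, a, b, v, hva, hvb⟩ : ∃ (V : X.Etale) (a : V ⟶ U) (b : V ⟶ V₁)
      (v : Over.mk (ξ ≫ i) ⟶ (Scheme.Etale.forget X).obj V),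
      v ≫ (Scheme.Etale.forget X).map a = v₀ ∧ v ≫ (Scheme.Etale.forget X).map b = v₁ := by
    let V : X.Etale := Scheme.Etale.mk (pullback.fst U.hom V₁.hom ≫ U.hom)
    refine ⟨V, MorphismProperty.Over.homMk (pullback.fst U.hom V₁.hom) rfl,
      MorphismProperty.Over.homMk (pullback.snd U.hom V₁.hom) pullback.condition.symm,
      Over.homMk (pullback.lift v₀.left v₁.left ((Over.w v₀).trans (Over.w v₁).symm)) ?_, ?_, ?_⟩
    · exact (pullback.lift_fst_assoc _ _ _ _).trans (Over.w v₀)
    · exact Over.OverMorphism.ext (pullback.lift_fst _ _ _)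
    · exact Over.OverMorphism.ext (pullback.lift_snd _ _ _)
  refine ⟨V, a, F.obj.map b.op t₁, (EtPushStalk.up i ξ v).left (default : Spec (CommRingCat.of Ω)), ?_, ?_⟩
  · rw [← hη, ← hup, ← hva, ← EtPushStalk.up_map i ξ a v]
    exact (Scheme.Hom.comp_apply _ _ _).symm
  · refine (EtPushStalk.germ_eq_zero_iff _ ξ _ (EtPushStalk.up i ξ v) _).mp ?_
    rw [map_sub, sub_eq_zero]
    refine Eq.trans ?_ ((hz.symm.trans (stalkPullIso_germ i F ξ V₁ v₁ t₁)).trans ?_)
    · refine (ConcreteCategory.congr_hom ((Scheme.pointSmallEtale ξ).toPresheafFiber_w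
        ((EtCoh.bc i).map a) (EtPushStalk.up i ξ v) ((EtCoh.pull i).obj F).obj) σ).trans ?_
      rw [← hva, ← EtPushStalk.up_map i ξ a v]
      rfl
    · rw [← unitSec_map i F b t₁]
      refine Eq.trans ?_ (ConcreteCategory.congr_hom ((Scheme.pointSmallEtale ξ).toPresheafFiber_w
        ((EtCoh.bc i).map b) (EtPushStalk.up i ξ v) ((EtCoh.pull i).obj F).obj) (unitSec i F V₁ t₁)).symm
      rw [← hvb, ← EtPushStalk.up_map i ξ b v]
      rfl

variable {U : X.Etale}

/-- sections are determined by their pullbacks -/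
theorem unitSec_injective (h : FEtHens.ClopenLift (pullback.fst U.hom i)) (F : EtCoh.Ab X) :
    Function.Injective (unitSec i F U) := by
  rw [injective_iff_map_eq_zero]
  intro t ht
  have h1 := (EtPushStalk.unit_eq_zero_iff i F U t).mp ht
  have h2 : EtShriek.sectSupp F U t = ∅ :=
    h.eq_empty _ (EtSect.isClosed_sectSupp F t) (Set.eq_empty_of_forall_notMem fun p => h1 ⟨p, rfl⟩)
  have := (EtSect.map_eq_zero_iff F t (𝟙 _)).mpr fun x _ => by rw [h2]; exact Set.notMem_empty x
  simpa using this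

variable {M : Type} [AddCommGroup M]

/-- pulled back sections of a constant sheaf lift -/
theorem unitSec_const_surjective (h : FEtHens.ClopenLift (pullback.fst U.hom i)) :
    Function.Surjective (unitSec i (EtCoh.const X M) U) := by
  classical
  intro σ
  let C := EtCoh.const X M
  let B := (EtCoh.bc i).obj U
  let fst : B.left ⟶ U.left := pullback.fst U.hom i
  let cU : M → EtCoh.sect C U := fun m => C.obj.map (toTopX U).op (cst m)
  let R := fun (p : B.left) (m : M) =>
    p ∉ EtShriek.sectSupp ((EtCoh.pull i).obj C) B (σ - unitSec i C U (cU m))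
  have hex : ∀ p, ∃ m, R p m := fun p => by
    obtain ⟨V, a, t, q, hq, ht⟩ := exists_unit_near' i C U σ p
    obtain ⟨m, hm⟩ := exists_cst_near t (pullback.fst V.hom i q)
    refine ⟨m, ?_⟩
    have h2 : q ∉ EtShriek.sectSupp ((EtCoh.pull i).obj C) ((EtCoh.bc i).obj V)
        (unitSec i C V t - unitSec i C V (C.obj.map (toTopX V).op (cst m))) := by
      rw [← map_sub]
      exact fun h => hm ((EtPushStalk.mem_sectSupp_unit_iff i C V _ q).mp h)
    have h3 := notMem_sub_trans _ ht h2
    have hc : C.obj.map (toTopX V).op (cst m) = C.obj.map a.op (cU m) := by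
      rw [← hom_top_eq (a ≫ toTopX U) (toTopX V), op_comp, Functor.map_comp]
      rfl
    rw [hc, ← unitSec_map, ← map_sub, notMem_map_iff, hq] at h3
    exact h3
  choose f hf using hex
  have huniq : ∀ p m, R p m → m = f p := fun p m hm => by
    rw [← sub_eq_zero]
    refine eq_zero_of_notMem_cst (X := X) (x := (toTopX U).left (fst p)) ?_
    have h := notMem_sub_trans _ (notMem_neg _ hm) (hf p)
    rw [← map_sub, ← map_sub, cst_sub] at h
    have h' : fst p ∉ EtShriek.sectSupp C U (C.obj.map (toTopX U).op (cst (m - f p))) :=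
      fun hc => h ((EtPushStalk.mem_sectSupp_unit_iff i C U _ p).mpr hc)
    rw [notMem_map_iff] at h'
    exact h'
  have hlvl : ∀ m, IsOpen (f ⁻¹' {m}) := fun m => by
    have e : f ⁻¹' {m} =
        (EtShriek.sectSupp ((EtCoh.pull i).obj C) B (σ - unitSec i C U (cU m)))ᶜ := by
      ext p
      exact ⟨fun h => h ▸ hf p, fun h => (huniq p m h).symm⟩
    rw [e]
    exact (EtSect.isClosed_sectSupp _ _).isOpen_compl
  have hlc : IsLocallyConstant f := IsLocallyConstant.iff_isOpen_fiber.mpr hlvl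
  choose W hW hWpre using fun m => h.exists_lift (f ⁻¹' {m}) (hlc.isClopen_fiber m)
  have hdisj : ∀ m m' (x : U.left), x ∈ W m → x ∈ W m' → m = m' := fun m m' x hx hx' => by
    by_contra hne
    have h0 : W m ∩ W m' = ∅ := h.eq_empty _ ((hW m).isClosed.inter (hW m').isClosed) (by
      rw [Set.preimage_inter, hWpre, hWpre]
      refine Set.eq_empty_of_forall_notMem fun p hp => hne ?_
      exact hp.1.symm.trans hp.2)
    exact Set.notMem_empty x (h0 ▸ ⟨hx, hx'⟩)
  have hcov : ∀ x : U.left, ∃ m, x ∈ W m := fun x => by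
    by_contra hne
    have h0 : (⋃ m, W m)ᶜ = ∅ := h.eq_empty _ (isOpen_iUnion fun m => (hW m).isOpen).isClosed_compl (by
      refine Set.eq_empty_of_forall_notMem fun p hp => hp (Set.mem_iUnion.2 ⟨f p, ?_⟩)
      exact (hWpre (f p)).ge (rfl : f p = f p))
    exact Set.notMem_empty x (h0 ▸ fun hx => hne (Set.mem_iUnion.1 hx))
  let O : M → U.left.Opens := fun m => ⟨W m, (hW m).isOpen⟩
  let Oe : M → X.Etale := fun m => Scheme.Etale.mk ((O m).ι ≫ U.hom)
  let π : ∀ m, Oe m ⟶ U := fun m => MorphismProperty.Over.homMk (O m).ι rfl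
  have hrange : ∀ m, Set.range (π m).left = W m := fun m => Scheme.Opens.range_ι (O m)
  obtain ⟨t, ht⟩ := EtColimH.exists_amalg C Oe π (fun x => by
    obtain ⟨m, hm⟩ := hcov x
    exact ⟨m, (hrange m).ge hm⟩)
    (fun m => C.obj.map (π m).op (cU m)) fun m m' T a b hab => by
    have hmm : ∀ {A B : X.Etale} (c : A ⟶ B) (d : B ⟶ U) (z : EtCoh.sect C U),
        C.obj.map c.op (C.obj.map d.op z) = C.obj.map (c ≫ d).op z := fun c d z => by
      rw [op_comp, Functor.map_comp]
      rfl
    refine (hmm a (π m) (cU m)).trans (Eq.trans ?_ (hmm b (π m') (cU m')).symm)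
    rw [← hab]
    rcases isEmpty_or_nonempty T.left with hT | ⟨⟨w⟩⟩
    · exact eq_of_notMem C fun x => isEmptyElim x
    · have h1 : (a ≫ π m).left w ∈ W m := (hrange m).le ⟨a.left w, (Scheme.Hom.comp_apply _ _ _).symm⟩
      have h2 : (b ≫ π m').left w ∈ W m' := (hrange m').le ⟨b.left w, (Scheme.Hom.comp_apply _ _ _).symm⟩
      rw [hab] at h1
      exact congrArg _ (congrArg cU (hdisj m m' _ h1 h2))
  refine ⟨t, eq_of_notMem _ fun p => notMem_sub_trans _ ?_ (notMem_neg _ (hf p))⟩
  rw [← map_sub]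
  refine fun h => ?_
  have hp := (EtPushStalk.mem_sectSupp_unit_iff i C U _ p).mp h
  have hz : fst p ∈ W (f p) := (hWpre (f p)).ge (rfl : f p = f p)
  obtain ⟨w, hw⟩ := (hrange (f p)).ge hz
  refine (EtSect.mem_iff C _ _).mpr ⟨Oe (f p), π (f p), ⟨w, hw⟩, ?_⟩ hp
  rw [map_sub, sub_eq_zero]
  exact ht (f p)

end Groth.Agent.EtH1PBC
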