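import Groth.Agent.EtFLC.Site
import Groth.Agent.EtDescRep.Local
import Groth.Agent.EtH0Pair.Const

/-!
# A torsor under a finite constant group lifts a section over a finite étale cover
-/

set_option autoImplicit false
set_option backward.isDefEq.respectTransparency false
set_option linter.style.haveILetI false
set_option maxHeartbeats 1000000

universe u

open CategoryTheory CategoryTheory.Limits AlgebraicGeometry Opposite
open Groth.Agent.EtFLC (res res_res res_id app_res)

noncomputable section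

namespace Groth.Agent.EtH1PBC

open Groth.Agent.EtH0Pair (cst toTopX hom_top_eq exists_cst_near eq_zero_of_notMem_cst)

variable {Z : Scheme.{u}}

/-- the sections lifting a given one -/
def liftsSub {F G : EtCoh.Ab Z} (g : F ⟶ G) (s : EtCoh.sect G (EtCoh.top Z)) :
    Subfunctor (F.obj ⋙ forget AddCommGrpCat.{u + 1}) where
  obj V := {t | g.hom.app V t = res G (toTopX V.unop) s}
  map {V W} f t ht := by
    change g.hom.app W (F.obj.map f t) = _
    rw [NatTrans.naturality_apply g.hom f t, ht]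
    change res G f.unop (res G (toTopX V.unop) s) = _
    rw [res_res, hom_top_eq (f.unop ≫ toTopX V.unop) (toTopX W.unop)]

theorem liftsSub_isSheaf {F G : EtCoh.Ab Z} (g : F ⟶ G) (s : EtCoh.sect G (EtCoh.top Z)) :
    Presheaf.IsSheaf Z.smallEtaleTopology (liftsSub g s).toFunctor := by
  rw [isSheaf_iff_isSheaf_of_type]
  refine ((liftsSub g s).isSheaf_iff ((isSheaf_iff_isSheaf_of_type _ _).1
    (Presheaf.isSheaf_comp_of_isSheaf Z.smallEtaleTopology F.obj (forget AddCommGrpCat) F.property))).2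
    fun V t ht => ?_
  refine EtFLC.sect_ext G fun v => ?_
  obtain ⟨W, h, w, hS, hw⟩ := (EtFLC.mem_iff _).1 ht v
  refine ⟨W, h, w, hw, ?_⟩
  rw [res_res, hom_top_eq (h ≫ toTopX V.unop) (toTopX W), ← app_res]
  exact hS

/-- **sections over a finite étale cover lifting a given one** -/
theorem exists_finite_lift {S : ShortComplex (EtCoh.Ab Z)} (hS : S.ShortExact) {M : Type} [AddCommGroup M]
    [Finite M] (e : EtCoh.const Z M ≅ S.X₁) (s : EtCoh.sect S.X₃ (EtCoh.top Z)) :
    ∃ (E : Z.Etale) (t : EtCoh.sect S.X₂ E), IsFinite E.hom ∧ Surjective E.hom ∧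
      S.g.hom.app (op E) t = res S.X₃ (toTopX E) s := by
  classical
  haveI := hS.mono_f
  haveI := hS.epi_g
  let G : EtDesc.Sh Z := ⟨(liftsSub S.g s).toFunctor, liftsSub_isSheaf S.g s⟩
  have hloc : ∀ z : Z, ∃ (W : Z.Etale) (t : EtCoh.sect S.X₂ W),
      (∃ w : W.left, W.hom w = z) ∧ S.g.hom.app (op W) t = res S.X₃ (toTopX W) s := fun z => by
    obtain ⟨W, h, w, t, hw, ht⟩ := EtFLC.exists_lift_of_epi S.g s (V := EtCoh.top Z) (show (EtCoh.top Z).left from z)
    refine ⟨W, t, ⟨w, ?_⟩, by rw [hom_top_eq (toTopX W) h]; exact ht⟩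
    rw [← hw, ← Category.comp_id h.left]
    exact congrArg (fun m : W.left ⟶ Z => m w) (MorphismProperty.Over.w h).symm
  choose W t hW ht using hloc
  let cM : ∀ (V : Z.Etale), M → EtCoh.sect S.X₁ V := fun V m =>
    e.hom.hom.app (op V) (res (EtCoh.const Z M) (toTopX V) (cst m))
  have hcM : ∀ {V V' : Z.Etale} (f : V' ⟶ V) (m : M), res S.X₁ f (cM V m) = cM V' m := fun {V V'} f m => by
    change res S.X₁ f ((e.hom.hom.app (op V)).hom _) = (e.hom.hom.app (op V')).hom _
    rw [← app_res, res_res, hom_top_eq (f ≫ toTopX V) (toTopX V')]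
  have hgf : ∀ {V : Z.Etale} (a : EtCoh.sect S.X₁ V), S.g.hom.app (op V) (S.f.hom.app (op V) a) = 0 := fun a =>
    ConcreteCategory.congr_hom (NatTrans.congr_app (congrArg (fun φ => φ.hom) S.zero) (op _)) a
  have hinv : ∀ (V : Z.Etale) (a : EtCoh.sect S.X₁ V), e.hom.hom.app (op V) (e.inv.hom.app (op V) a) = a :=
    fun V a => ConcreteCategory.congr_hom (NatTrans.congr_app (congrArg (fun φ => φ.hom) e.inv_hom_id) (op V)) a
  have hres : ∀ {V V' : Z.Etale} (f : V' ⟶ V) (m : M),
      res S.X₂ f (S.f.hom.app (op V) (cM V m)) = S.f.hom.app (op V') (cM V' m) := fun f m =>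
    (app_res S.f f _).symm.trans (congrArg (fun b => S.f.hom.app (op _) b) (hcM f m))
  let n := Nat.card M
  let eM : Fin n ≃ M := (Finite.equivFin M).symm
  let σ : ∀ z, M → EtDesc.sect G (W z) := fun z m => ⟨t z + S.f.hom.app (op (W z)) (cM (W z) m), by
    change S.g.hom.app (op (W z)) _ = res S.X₃ (toTopX (W z)) s
    rw [map_add, hgf, add_zero, ht]⟩
  have hσ : ∀ z, EtDescRep.IsTrivSet G (W z) (σ z) := fun z => by
    refine ⟨fun {V} g x v => ?_, fun {V} g m m' hm v => ?_⟩
    · have hx : S.g.hom.app (op V) (x.1 - res S.X₂ g (t z)) = 0 := by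
        rw [map_sub, app_res, ht, res_res, hom_top_eq (g ≫ toTopX (W z)) (toTopX V), x.2]
        exact sub_self _
      obtain ⟨V₁, h₁, v₁, a, hv₁, ha⟩ := EtFLC.exists_lift_of_exact hS.exact _ hx v
      obtain ⟨m, hm⟩ := exists_cst_near (e.inv.hom.app (op V₁) a) v₁
      obtain ⟨V₂, h₂, ⟨v₂, hv₂⟩, h0⟩ := (EtSect.mem_iff _ _ _).1 hm
      rw [map_sub, sub_eq_zero] at h0
      refine ⟨V₂, h₂ ≫ h₁, m, ⟨v₂, ?_⟩, ?_⟩
      · exact (EtFLC.comp_left_apply h₂ h₁ v₂).trans (by rw [hv₂, hv₁])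
      · have ha' : res S.X₁ h₂ a = cM V₂ m := by
          have h3 := congrArg (fun b => e.hom.hom.app (op V₂) b) h0
          change (e.hom.hom.app (op V₂)).hom (res (EtCoh.const Z M) h₂ ((e.inv.hom.app (op V₁)).hom a)) =
            (e.hom.hom.app (op V₂)).hom (res (EtCoh.const Z M) h₂ (res (EtCoh.const Z M) (toTopX V₁) (cst m))) at h3
          rw [app_res, res_res, hom_top_eq (h₂ ≫ toTopX V₁) (toTopX V₂)] at h3
          exact (congrArg (res S.X₁ h₂) (hinv V₁ a)).symm.trans h3
        apply Subtype.ext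
        change res S.X₂ (h₂ ≫ h₁) x.1 = res S.X₂ ((h₂ ≫ h₁) ≫ g) (t z + S.f.hom.app (op (W z)) (cM (W z) m))
        have h4 := congrArg (res S.X₂ h₂) ha
        rw [← app_res, res_res, map_sub, res_res, ha'] at h4
        rw [map_add, hres, h4]
        abel
    · have h1 := congrArg Subtype.val hm
      change res S.X₂ g (t z + S.f.hom.app (op (W z)) (cM (W z) m)) =
        res S.X₂ g (t z + S.f.hom.app (op (W z)) (cM (W z) m')) at h1
      rw [map_add, map_add, hres, hres] at h1
      have h2 := congrArg (fun b => e.inv.hom.app (op V) b) (EtFLC.app_injective S.f V (add_left_cancel h1))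
      have hh : ∀ b, e.inv.hom.app (op V) (e.hom.hom.app (op V) b) = b := fun b =>
        ConcreteCategory.congr_hom (NatTrans.congr_app (congrArg (fun φ => φ.hom) e.hom_inv_id) (op V)) b
      simp only [cM, hh] at h2
      rw [← sub_eq_zero]
      refine eq_zero_of_notMem_cst (X := Z) (x := (toTopX V).left v) ?_
      refine (EtSect.mem_iff _ _ _).2 ⟨V, toTopX V, ⟨v, rfl⟩, ?_⟩
      rw [← EtH0Pair.cst_sub, map_sub, sub_eq_zero]
      exact h2
  obtain ⟨S', T', a, z, hS', ha, hrep⟩ :=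
    EtDescRep.exists_repr W (fun x => ⟨x, hW x⟩) (fun _ => n) (fun z => σ z ∘ eM) (fun z => (hσ z).congr eM)
  haveI := hS'
  haveI := ha
  obtain ⟨E, hE, ⟨ee⟩⟩ := EtDescRep.exists_rep hrep
  let tE : EtDesc.sect G E := ee.hom.app (op E) (ULift.up (𝟙 E))
  refine ⟨E, tE.1, hE, ⟨fun x => ?_⟩, tE.2⟩
  obtain ⟨w, hw⟩ := hW x
  let v : W x ⟶ E := (ee.inv.app (op (W x)) (⟨t x, ht x⟩ : EtDesc.sect G (W x))).down
  refine ⟨v.left w, Eq.trans ?_ hw⟩
  exact (Scheme.Hom.comp_apply _ _ _).symm.trans (congrArg (fun m : (W x).left ⟶ Z => m w) (MorphismProperty.Over.w v))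

end Groth.Agent.EtH1PBC
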