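import Groth.Agent.EtH1PBC.Classes
import Groth.Agent.EtH1PBC.Clopen
import Groth.Agent.EtH1PBC.Cech
import Groth.Agent.EtH1PBC.Torsor
import Groth.Agent.EtPicLib.Basic
import Groth.Agent.FEtHens.Local
import Groth.Agent.S0167
import Groth.Agent.S0240

/-!
# `H¹` with finite constant coefficients and proper base change over henselian local rings
-/

set_option autoImplicit false
set_option backward.isDefEq.respectTransparency false
set_option backward.isDefEq.respectTransparency.types false
set_option linter.style.haveILetI false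
set_option maxHeartbeats 1000000

universe u

open CategoryTheory CategoryTheory.Limits CategoryTheory.Abelian AlgebraicGeometry Opposite
open Groth.Agent.EtFLC (res res_res res_id app_res)
open Groth.Agent.EtMV (κ κ_bijective r δtop injSeq injSeq_shortExact)

noncomputable section

namespace Groth.Agent.EtH1PBC

attribute [local instance 100000] EtCoh.H._proof_1 EtMV.hext
attribute [local instance 200000] EtMV.hextAb

open Groth.Agent.EtH0Pair (toTopX hom_top_eq unitSec unitSec_map unitSec_naturality)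

variable {Z X : Scheme.{u}}

/-- The abstract statement: `H¹` with finite constant coefficients restricts bijectively. -/
theorem surjective_Hpull_one (i : Z ⟶ X) [PreservesFiniteLimits (EtCoh.pull i)]
    (hfin : FEtHens.FinClopenLift i) (hX : FEtHens.ClopenLift i) (hess : (FEt.restrict i).EssSurj)
    (M : Type) [AddCommGroup M] [Finite M] :
    Function.Surjective (EtCore.Hpull i (EtCoh.const X M) 1) := by
  intro ξ
  let G := EtCoh.const X M
  let G₀ := (EtCoh.pull i).obj G
  obtain ⟨ψ₀, rfl⟩ := exists_cls G₀ ξ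
  have hS₀ := injSeq_shortExact G₀
  obtain ⟨E₀, t₀, hE₀, hE₀s, ht₀⟩ := exists_finite_lift hS₀ (EtCore.pullConst i M).symm (κ ψ₀)
  obtain ⟨EE, ⟨ee⟩⟩ := hess.mem_essImage (MorphismProperty.Over.mk ⊤ E₀.hom ⟨hE₀, E₀.prop⟩)
  haveI : IsFinite EE.hom := EE.prop.1
  haveI : Etale EE.hom := EE.prop.2
  let E : X.Etale := Scheme.Etale.mk EE.hom
  let B := (EtCoh.bc i).obj E
  let j : B ⟶ E₀ := MorphismProperty.Over.homMk ee.hom.left (MorphismProperty.Over.w ee.hom)
  obtain ⟨t₁, ht₁⟩ : ∃ t₁ : EtCoh.sect (injSeq G₀).X₂ B,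
      (injSeq G₀).g.hom.app (op B) t₁ = res (injSeq G₀).X₃ (toTopX B) (κ ψ₀) := ⟨res (injSeq G₀).X₂ j t₀, by
    change ((injSeq G₀).g.hom.app (op B)).hom (res (injSeq G₀).X₂ j t₀) = _
    rw [app_res, ht₀, res_res, hom_top_eq (j ≫ toTopX E₀) (toTopX B)]⟩
  have hBs : ∀ z : Z, ∃ b : B.left, B.hom b = z := fun z => by
    obtain ⟨e₀, he₀⟩ := hE₀s.surj z
    refine ⟨ee.inv.left e₀, Eq.trans ?_ he₀⟩
    exact (Scheme.Hom.comp_apply _ _ _).symm.trans
      (congrArg (fun m : E₀.left ⟶ Z => m e₀) (MorphismProperty.Over.w ee.inv))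
  have hEs : ∀ x : X, ∃ e : E.left, E.hom e = x := fun x => by
    have h0 : (Set.range EE.hom)ᶜ = ∅ :=
      hX.eq_empty _ (EE.hom.isOpenMap.isOpen_range).isClosed_compl (Set.eq_empty_of_forall_notMem fun z hz => by
        obtain ⟨b, hb⟩ := hBs z
        refine hz ⟨pullback.fst E.hom i b, ?_⟩
        have h1 := (Scheme.Hom.comp_apply (pullback.fst E.hom i) E.hom b).symm.trans
          ((congrArg (fun m : B.left ⟶ X => m b) pullback.condition).trans (Scheme.Hom.comp_apply _ _ _))
        exact h1.trans (congrArg (fun z => i z) hb))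
    exact (Set.compl_empty_iff.1 h0).ge (Set.mem_univ x)
  -- the square and the cube of `E`
  haveI : IsFinite (pullback.fst E.hom E.hom ≫ E.hom) := by
    haveI : IsFinite E.hom := EE.prop.1
    infer_instance
  haveI : Etale (pullback.fst E.hom E.hom ≫ E.hom) := by
    haveI : Etale E.hom := EE.prop.2
    infer_instance
  let P : X.Etale := Scheme.Etale.mk (pullback.fst E.hom E.hom ≫ E.hom)
  let p₁ : P ⟶ E := MorphismProperty.Over.homMk (pullback.fst E.hom E.hom) rfl
  let p₂ : P ⟶ E := MorphismProperty.Over.homMk (pullback.snd E.hom E.hom) pullback.condition.symm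
  let Q : X.Etale := Scheme.Etale.mk (pullback.fst P.hom E.hom ≫ P.hom)
  haveI : IsFinite Q.hom := by
    haveI : IsFinite P.hom := ‹IsFinite (pullback.fst E.hom E.hom ≫ E.hom)›
    haveI : IsFinite E.hom := EE.prop.1
    exact inferInstanceAs (IsFinite (pullback.fst P.hom E.hom ≫ P.hom))
  let π : Q ⟶ P := MorphismProperty.Over.homMk (pullback.fst P.hom E.hom) rfl
  let q₃ : Q ⟶ E := MorphismProperty.Over.homMk (pullback.snd P.hom E.hom) pullback.condition.symm
  have hw : ∀ {T : X.Etale} (a b : T ⟶ E), a.left ≫ E.hom = b.left ≫ E.hom := fun a b =>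
    (MorphismProperty.Over.w a).trans (MorphismProperty.Over.w b).symm
  let pair : ∀ {T : X.Etale}, (T ⟶ E) → (T ⟶ E) → (T ⟶ P) := fun {T} a b =>
    MorphismProperty.Over.homMk (pullback.lift a.left b.left (hw a b))
      ((pullback.lift_fst_assoc _ _ _ _).trans (MorphismProperty.Over.w a))
  have hpair₁ : ∀ {T : X.Etale} (a b : T ⟶ E), pair a b ≫ p₁ = a := fun a b =>
    MorphismProperty.Over.Hom.ext (pullback.lift_fst _ _ _)
  have hpair₂ : ∀ {T : X.Etale} (a b : T ⟶ E), pair a b ≫ p₂ = b := fun a b =>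
    MorphismProperty.Over.Hom.ext (pullback.lift_snd _ _ _)
  have hpairN : ∀ {T T' : X.Etale} (f : T' ⟶ T) (a b : T ⟶ E), f ≫ pair a b = pair (f ≫ a) (f ≫ b) :=
    fun {T T'} f a b => MorphismProperty.Over.Hom.ext (pullback.hom_ext
      ((Category.assoc _ _ _).trans ((congrArg (f.left ≫ ·) (pullback.lift_fst _ _ _)).trans
        (pullback.lift_fst _ _ _).symm))
      ((Category.assoc _ _ _).trans ((congrArg (f.left ≫ ·) (pullback.lift_snd _ _ _)).trans
        (pullback.lift_snd _ _ _).symm)))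
  -- the cocycle on the closed part
  let bP : ∀ {U V : X.Etale}, (U ⟶ V) → ((EtCoh.bc i).obj U ⟶ (EtCoh.bc i).obj V) := fun {U V} g => (EtCoh.bc i).map g
  let d := res (injSeq G₀).X₂ (bP p₁) t₁ - res (injSeq G₀).X₂ (bP p₂) t₁
  have hd : (injSeq G₀).g.hom.app (op ((EtCoh.bc i).obj P)) d = 0 := by
    change ((injSeq G₀).g.hom.app (op _)).hom
      (res (injSeq G₀).X₂ (bP p₁) t₁ - res (injSeq G₀).X₂ (bP p₂) t₁) = 0
    rw [map_sub, app_res, app_res, ht₁, res_res, res_res, hom_top_eq (bP p₁ ≫ toTopX B) (bP p₂ ≫ toTopX B), sub_self]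
  obtain ⟨c₀, hc₀⟩ := EtPicLib.exists_kernel hS₀ d hd
  obtain ⟨c₁, rfl⟩ := unitSec_const_surjective i (U := P) (hfin P.left P.hom ‹_›) c₀
  let c : ∀ T : X.Etale, (T ⟶ E) → (T ⟶ E) → EtCoh.sect G T := fun T a b => res G (pair a b) c₁
  have hn : ∀ {T T' : X.Etale} (f : T' ⟶ T) (a b : T ⟶ E), res G f (c T a b) = c T' (f ≫ a) (f ≫ b) :=
    fun f a b => by
      change res G f (res G (pair a b) c₁) = res G (pair (f ≫ a) (f ≫ b)) c₁
      rw [res_res, hpairN]
  have hunit : ∀ {T : X.Etale} (a b : T ⟶ E),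
      (injSeq G₀).f.hom.app (op ((EtCoh.bc i).obj T)) (unitSec i G T (c T a b)) =
        res (injSeq G₀).X₂ (bP a) t₁ - res (injSeq G₀).X₂ (bP b) t₁ := fun {T} a b => by
    have h1 : unitSec i G T (c T a b) = res G₀ (bP (pair a b)) (unitSec i G P c₁) :=
      (unitSec_map i G (pair a b) c₁).symm
    refine (congrArg (fun s => (injSeq G₀).f.hom.app (op ((EtCoh.bc i).obj T)) s) h1).trans ?_
    refine (app_res (injSeq G₀).f (bP (pair a b)) (unitSec i G P c₁)).trans ?_
    refine (congrArg (res (injSeq G₀).X₂ (bP (pair a b))) hc₀).trans ?_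
    change res (injSeq G₀).X₂ (bP (pair a b))
      (res (injSeq G₀).X₂ (bP p₁) t₁ - res (injSeq G₀).X₂ (bP p₂) t₁) = _
    rw [map_sub, res_res, res_res, ← (EtCoh.bc i).map_comp, ← (EtCoh.bc i).map_comp, hpair₁, hpair₂]
  have hc : ∀ (T : X.Etale) (a b e : T ⟶ E), c T a b + c T b e = c T a e := by
    intro T a b e
    let l : T ⟶ Q := MorphismProperty.Over.homMk (pullback.lift (pair a b).left e.left
      ((MorphismProperty.Over.w (pair a b)).trans (MorphismProperty.Over.w e).symm))
      ((pullback.lift_fst_assoc _ _ _ _).trans (MorphismProperty.Over.w (pair a b)))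
    have hl1 : l ≫ π = pair a b := MorphismProperty.Over.Hom.ext (pullback.lift_fst _ _ _)
    have hl3 : l ≫ q₃ = e := MorphismProperty.Over.Hom.ext (pullback.lift_snd _ _ _)
    have hla : l ≫ π ≫ p₁ = a := by rw [← Category.assoc, hl1, hpair₁]
    have hlb : l ≫ π ≫ p₂ = b := by rw [← Category.assoc, hl1, hpair₂]
    have hQ : c Q (π ≫ p₁) (π ≫ p₂) + c Q (π ≫ p₂) q₃ = c Q (π ≫ p₁) q₃ := by
      refine unitSec_injective i (U := Q) (hfin Q.left Q.hom ‹_›) G (EtPicLib.f_injective hS₀ _ ?_)
      rw [map_add, map_add, hunit, hunit, hunit]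
      exact sub_add_sub_cancel _ _ _
    have h3 := congrArg (res G l) hQ
    rwa [map_add, hn, hn, hn, hla, hlb, hl3] at h3
  obtain ⟨iI, hiI⟩ := exists_split E (injSeq G).f c hc hn
  have hgc : ∀ {T : X.Etale} (s : EtCoh.sect G T),
      (injSeq G).g.hom.app (op T) ((injSeq G).f.hom.app (op T) s) = 0 := fun s => EtPicLib.g_f (S := injSeq G) s
  obtain ⟨q, hq⟩ := EtPicLib.exists_glue (injSeq G).X₃ (κ := PUnit.{1}) (fun _ => E) (fun _ => toTopX E)
    (fun x => ⟨⟨⟩, (hEs x).choose, (hEs x).choose_spec⟩) (fun _ => (injSeq G).g.hom.app (op E) iI)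
    (fun _ _ T a b _ => by
      change res (injSeq G).X₃ a (((injSeq G).g.hom.app (op E)).hom iI) =
        res (injSeq G).X₃ b (((injSeq G).g.hom.app (op E)).hom iI)
      rw [← app_res, ← app_res, ← sub_eq_zero, ← map_sub, hiI]
      exact hgc _)
  refine mem_range_of_section i G ψ₀ ⟨q, fun γ hγ => ?_⟩
  let κI := cmpHom i G
  let w := κI.hom.app (op B) (unitSec i (injSeq G).X₂ E iI) - t₁
  have hwP : res (injSeq G₀).X₂ (bP p₁) w = res (injSeq G₀).X₂ (bP p₂) w := by
    have h1 : ∀ p : P ⟶ E, res (injSeq G₀).X₂ (bP p) (κI.hom.app (op B) (unitSec i (injSeq G).X₂ E iI)) =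
        κI.hom.app (op ((EtCoh.bc i).obj P)) (unitSec i (injSeq G).X₂ P (res (injSeq G).X₂ p iI)) := fun p =>
      (app_res κI (bP p) (unitSec i (injSeq G).X₂ E iI)).symm.trans
        (congrArg (fun s => κI.hom.app (op ((EtCoh.bc i).obj P)) s) (unitSec_map i (injSeq G).X₂ p iI))
    have h2 : κI.hom.app (op ((EtCoh.bc i).obj P)) (unitSec i (injSeq G).X₂ P ((injSeq G).f.hom.app (op P) (c P p₁ p₂))) =
        (injSeq G₀).f.hom.app (op ((EtCoh.bc i).obj P)) (unitSec i G P (c P p₁ p₂)) :=
      (congrArg (fun s => κI.hom.app (op ((EtCoh.bc i).obj P)) s)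
        (unitSec_naturality i G (injSeq G).f P (c P p₁ p₂)).symm).trans
        (ConcreteCategory.congr_hom (congrArg (fun m => m.hom.app (op ((EtCoh.bc i).obj P))) (map_f_cmpHom i G)) _)
    rw [← sub_eq_zero]
    change res (injSeq G₀).X₂ (bP p₁) (κI.hom.app (op B) (unitSec i (injSeq G).X₂ E iI) - t₁) -
      res (injSeq G₀).X₂ (bP p₂) (κI.hom.app (op B) (unitSec i (injSeq G).X₂ E iI) - t₁) = 0
    rw [map_sub, map_sub, h1, h1, sub_sub_sub_comm, ← map_sub, ← map_sub, hiI, h2, hunit, sub_self]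
  obtain ⟨y, hy⟩ := EtPicLib.exists_glue (injSeq G₀).X₂ (κ := PUnit.{1}) (fun _ => B) (fun _ => toTopX B)
    (fun z => ⟨⟨⟩, (hBs z).choose, (hBs z).choose_spec⟩) (fun _ => w)
    (fun _ _ T a b _ => by
      let rP : T ⟶ (EtCoh.bc i).obj P := MorphismProperty.Over.homMk
        (pullback.lift (pullback.lift (a.left ≫ pullback.fst E.hom i) (b.left ≫ pullback.fst E.hom i)
          (by
            rw [Category.assoc, Category.assoc, pullback.condition]
            exact (Category.assoc _ _ _).symm.trans ((congrArg (· ≫ i) ((MorphismProperty.Over.w a).trans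
              (MorphismProperty.Over.w b).symm)).trans (Category.assoc _ _ _)))) T.hom
          (by
            change _ ≫ pullback.fst E.hom E.hom ≫ E.hom = _
            rw [pullback.lift_fst_assoc, Category.assoc, pullback.condition]
            exact (Category.assoc _ _ _).symm.trans (congrArg (· ≫ i) (MorphismProperty.Over.w a))))
        (pullback.lift_snd _ _ _)
      have e1 : rP ≫ bP p₁ = a := MorphismProperty.Over.Hom.ext (pullback.hom_ext
        (by
          change (rP.left ≫ pullback.lift _ _ _) ≫ pullback.fst E.hom i = _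
          rw [Category.assoc, pullback.lift_fst, ← Category.assoc]
          exact (congrArg (· ≫ pullback.fst E.hom E.hom) (pullback.lift_fst _ _ _)).trans (pullback.lift_fst _ _ _))
        (by
          change (rP.left ≫ pullback.lift _ _ _) ≫ pullback.snd E.hom i = _
          rw [Category.assoc, pullback.lift_snd]
          exact (congrArg (rP.left ≫ ·) (Category.comp_id _)).trans ((pullback.lift_snd _ _ _).trans (MorphismProperty.Over.w a).symm)))
      have e2 : rP ≫ bP p₂ = b := MorphismProperty.Over.Hom.ext (pullback.hom_ext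
        (by
          change (rP.left ≫ pullback.lift _ _ _) ≫ pullback.fst E.hom i = _
          rw [Category.assoc, pullback.lift_fst, ← Category.assoc]
          exact (congrArg (· ≫ pullback.snd E.hom E.hom) (pullback.lift_fst _ _ _)).trans (pullback.lift_snd _ _ _))
        (by
          change (rP.left ≫ pullback.lift _ _ _) ≫ pullback.snd E.hom i = _
          rw [Category.assoc, pullback.lift_snd]
          exact (congrArg (rP.left ≫ ·) (Category.comp_id _)).trans ((pullback.lift_snd _ _ _).trans (MorphismProperty.Over.w b).symm)))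
      rw [← e1, ← e2, ← res_res, ← res_res, hwP])
  refine ⟨y, EtFLC.sect_ext _ fun z => ?_⟩
  obtain ⟨b, hb⟩ := hBs z
  refine ⟨B, toTopX B, b, hb, ?_⟩
  have hy' : res (injSeq G₀).X₂ (toTopX B) y = w := hy ⟨⟩
  have hq' : res (injSeq G).X₃ (toTopX E) q = (injSeq G).g.hom.app (op E) iI := hq ⟨⟩
  change res (injSeq G₀).X₃ (toTopX B) (((injSeq G₀).g.hom.app (op (EtCoh.top Z))).hom y) =
    res (injSeq G₀).X₃ (toTopX B) (γ.hom.app (op (EtCoh.top Z)) (rTop i (injSeq G).X₃ q) - κ ψ₀)
  rw [← app_res, hy']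
  have hR : res (injSeq G₀).X₃ (toTopX B) (γ.hom.app (op (EtCoh.top Z)) (rTop i (injSeq G).X₃ q) - κ ψ₀) =
      γ.hom.app (op B) (res ((EtCoh.pull i).obj (injSeq G).X₃) (toTopX B) (rTop i (injSeq G).X₃ q)) -
        res (injSeq G₀).X₃ (toTopX B) (κ ψ₀) :=
    (map_sub (res (injSeq G₀).X₃ (toTopX B)) _ _).trans
      (congrArg (· - res (injSeq G₀).X₃ (toTopX B) (κ ψ₀)) (app_res γ (toTopX B) _).symm)
  refine Eq.trans ?_ hR.symm
  refine ((map_sub ((injSeq G₀).g.hom.app (op B)).hom _ _).trans (congrArg _ ht₁)).trans ?_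
  refine congrArg (· - res (injSeq G₀).X₃ (toTopX B) (κ ψ₀)) ?_
  have h3 : res ((EtCoh.pull i).obj (injSeq G).X₃) (toTopX B) (rTop i (injSeq G).X₃ q) =
      unitSec i (injSeq G).X₃ E (res (injSeq G).X₃ (toTopX E) q) := by
    refine (res_res _ (toTopX B) (δtop i) _).trans ?_
    refine Eq.trans ?_ (unitSec_map i (injSeq G).X₃ (toTopX E) q)
    exact congrArg (fun m => res ((EtCoh.pull i).obj (injSeq G).X₃) m (unitSec i (injSeq G).X₃ (EtCoh.top X) q))
      ((EtCore.bcTopIsTerminal i).hom_ext _ _)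
  rw [h3, hq']
  exact (ConcreteCategory.congr_hom (congrArg (fun m => m.hom.app (op B)) hγ) (unitSec i (injSeq G).X₂ E iI)).symm.trans
    (congrArg (fun s => γ.hom.app (op B) s) (unitSec_naturality i (injSeq G).X₂ (injSeq G).g E iI))

/-- **proper base change for `H¹` with finite constant coefficients** -/
theorem bijective_Hpull_one_closedFibre (A : Type u) [CommRing A] [HenselianLocalRing A] {X : Scheme.{u}}
    (f : X ⟶ Spec (CommRingCat.of A)) [IsProper f] (M : Type) [AddCommGroup M] [Finite M]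
    [PreservesFiniteLimits (EtCoh.pull (pullback.fst f (Spec.map (CommRingCat.ofHom (IsLocalRing.residue A)))))] :
    Function.Bijective (EtCore.Hpull (pullback.fst f (Spec.map (CommRingCat.ofHom (IsLocalRing.residue A))))
      (EtCoh.const X M) 1) := by
  let i := pullback.fst f (Spec.map (CommRingCat.ofHom (IsLocalRing.residue A)))
  have hr : ∀ F : EtCoh.Ab X, Function.Bijective (rTop i F) := fun F => by
    haveI : IsIso (δtop i) := inferInstanceAs (IsIso (EtCore.bcTopIso i).inv)
    exact (ConcreteCategory.bijective_of_isIso (((EtCoh.pull i).obj F).obj.map (δtop i).op)).comp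
      (Groth.Agent.S0167.result A X f F)
  exact ⟨Hpull_one_injective i hr _, surjective_Hpull_one i (FEtHens.finClopenLift_closedFibre A f)
    (FEtHens.clopenLift_closedFibre A f) (Groth.Agent.S0240.result A f).essSurj M⟩

end Groth.Agent.EtH1PBC
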