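import Groth.Prelude.Def_EtCore
import Groth.Agent.EtMV.Sect
import Groth.Agent.EtMV.Inst
import Groth.Agent.EtMV.Abs
import Groth.Agent.EtMV.AdjExt
import Groth.Agent.EtMV.Base
import Groth.Agent.EtPullExact.Basic

/-!
# Classes in `H¹` as images of global sections under the connecting map, and their pullbacks
-/

set_option autoImplicit false
set_option backward.isDefEq.respectTransparency false
set_option backward.isDefEq.respectTransparency.types false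
set_option linter.style.haveILetI false

universe u

open CategoryTheory CategoryTheory.Limits CategoryTheory.Abelian AlgebraicGeometry Opposite
open Groth.Agent.EtMV (κ κ_comp κ_bijective r r_natural δtop κ_pullConst injSeq injSeq_shortExact)

noncomputable section

namespace Groth.Agent.EtH1PBC

attribute [local instance 100000] EtCoh.H._proof_1 EtMV.hext
attribute [local instance 200000] EtMV.hextAb

variable {Y X : Scheme.{u}}

/-- pulled back global section -/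
abbrev rTop (i : Y ⟶ X) (F : EtCoh.Ab X) (s : EtCoh.sect F (EtCoh.top X)) :
    EtCoh.sect ((EtCoh.pull i).obj F) (EtCoh.top Y) :=
  r i (δtop i) F s

/-- the class of a homomorphism `ℤ ⟶ S.X₃` -/
def cls {S : ShortComplex (EtCoh.Ab X)} (hS : S.ShortExact) (ψ : EtCoh.const X ℤ ⟶ S.X₃) :
    EtCoh.H X S.X₁ 1 :=
  (Ext.mk₀ ψ).comp hS.extClass (zero_add 1)

theorem exists_cls (G : EtCoh.Ab X) (x : EtCoh.H X G 1) : ∃ ψ, cls (injSeq_shortExact G) ψ = x := by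
  obtain ⟨d, hd⟩ := Ext.covariant_sequence_exact₁ _ (injSeq_shortExact G) x
    (Ext.eq_zero_of_injective _) (zero_add 1)
  obtain ⟨ψ, rfl⟩ := (Ext.mk₀_bijective _ _).2 d
  exact ⟨ψ, hd⟩

theorem cls_eq_zero_iff {S : ShortComplex (EtCoh.Ab X)} (hS : S.ShortExact) (ψ : EtCoh.const X ℤ ⟶ S.X₃) :
    cls hS ψ = 0 ↔ ∃ φ : EtCoh.const X ℤ ⟶ S.X₂, φ ≫ S.g = ψ := by
  constructor
  · intro h
    obtain ⟨d, hd⟩ := Ext.covariant_sequence_exact₃ _ hS (Ext.mk₀ ψ) (zero_add 1) h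
    obtain ⟨φ, rfl⟩ := (Ext.mk₀_bijective _ _).2 d
    rw [Ext.mk₀_comp_mk₀] at hd
    exact ⟨φ, (Ext.mk₀_bijective _ _).1 hd⟩
  · rintro ⟨φ, rfl⟩
    rw [cls, ← Ext.mk₀_comp_mk₀_assoc, hS.comp_extClass, Ext.comp_zero]

theorem cls_eq_zero_iff_κ {S : ShortComplex (EtCoh.Ab X)} (hS : S.ShortExact) (ψ : EtCoh.const X ℤ ⟶ S.X₃) :
    cls hS ψ = 0 ↔ ∃ y, S.g.hom.app (op (EtCoh.top X)) y = κ ψ := by
  rw [cls_eq_zero_iff]
  constructor
  · rintro ⟨φ, rfl⟩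
    exact ⟨κ φ, rfl⟩
  · rintro ⟨y, hy⟩
    obtain ⟨φ, rfl⟩ := (κ_bijective S.X₂).2 y
    exact ⟨φ, (κ_bijective S.X₃).1 hy⟩

theorem cls_sub {S : ShortComplex (EtCoh.Ab X)} (hS : S.ShortExact) (ψ ψ' : EtCoh.const X ℤ ⟶ S.X₃) :
    cls hS (ψ - ψ') = cls hS ψ - cls hS ψ' := by
  rw [cls, cls, cls, sub_eq_add_neg, Ext.mk₀_add, Ext.add_comp, Ext.mk₀_neg, Ext.neg_comp, ← sub_eq_add_neg]

theorem κ_sub {G : EtCoh.Ab X} (a b : EtCoh.const X ℤ ⟶ G) : κ (a - b) = κ a - κ b := rfl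

section pull

variable (i : Y ⟶ X) [PreservesFiniteLimits (EtCoh.pull i)]

instance : PreservesFiniteColimits (EtCoh.pull i) :=
  haveI : (EtCoh.pull i).IsLeftAdjoint := (EtCoh.pullPushAdj i).isLeftAdjoint
  inferInstance

/-- pulled back homomorphism -/
def pullHom {G : EtCoh.Ab X} (ψ : EtCoh.const X ℤ ⟶ G) : EtCoh.const Y ℤ ⟶ (EtCoh.pull i).obj G :=
  (EtCore.pullConst i ℤ).inv ≫ (EtCoh.pull i).map ψ

theorem κ_pullHom {G : EtCoh.Ab X} (ψ : EtCoh.const X ℤ ⟶ G) : κ (pullHom i ψ) = rTop i G (κ ψ) := by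
  rw [pullHom, κ_comp, κ_pullConst i (δtop i)]
  exact r_natural i (δtop i) ψ _

theorem Hpull_cls {S : ShortComplex (EtCoh.Ab X)} (hS : S.ShortExact) (ψ : EtCoh.const X ℤ ⟶ S.X₃) :
    EtCore.Hpull i S.X₁ 1 (cls hS ψ) = cls (hS.map_of_exact (EtCoh.pull i)) (pullHom i ψ) := by
  have h := EtMV.T_comp (EtCoh.pull i) (EtCore.pullConst i ℤ).inv (Ext.mk₀ ψ) hS.extClass (zero_add 1)
  rw [EtMV.T_mk₀, Ext.mapExactFunctor_extClass] at h
  exact h

theorem Hpull_one_injective (hr : ∀ F : EtCoh.Ab X, Function.Bijective (rTop i F)) (G : EtCoh.Ab X) :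
    Function.Injective (EtCore.Hpull i G 1) := by
  refine (injective_iff_map_eq_zero _).2 fun x hx => ?_
  obtain ⟨ψ, rfl⟩ := exists_cls G x
  erw [Hpull_cls i (injSeq_shortExact G) ψ, cls_eq_zero_iff_κ] at hx
  obtain ⟨y, hy⟩ := hx
  obtain ⟨y', rfl⟩ := (hr _).2 y
  refine (cls_eq_zero_iff_κ _ _).2 ⟨y', (hr _).1 ?_⟩
  rw [κ_pullHom] at hy
  exact (r_natural i (δtop i) (injSeq G).g y').symm.trans hy

/-- the map of pulled back injective sequence into the injective sequence of the pulled back sheaf -/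
def cmpHom (G : EtCoh.Ab X) : ((EtCoh.pull i).obj (injSeq G).X₂) ⟶ (injSeq ((EtCoh.pull i).obj G)).X₂ :=
  haveI : Mono (injSeq G).f := (injSeq_shortExact G).mono_f
  Injective.factorThru (injSeq ((EtCoh.pull i).obj G)).f ((EtCoh.pull i).map (injSeq G).f)

theorem map_f_cmpHom (G : EtCoh.Ab X) :
    (EtCoh.pull i).map (injSeq G).f ≫ cmpHom i G = (injSeq ((EtCoh.pull i).obj G)).f :=
  haveI : Mono (injSeq G).f := (injSeq_shortExact G).mono_f
  Injective.comp_factorThru _ _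

/-- Criterion for a class to be a pullback. -/
theorem mem_range_of_section (G : EtCoh.Ab X) (ψ₀ : EtCoh.const Y ℤ ⟶ (injSeq ((EtCoh.pull i).obj G)).X₃)
    (h : ∃ (q : EtCoh.sect (injSeq G).X₃ (EtCoh.top X)),
      ∀ γ : ((EtCoh.pull i).obj (injSeq G).X₃) ⟶ (injSeq ((EtCoh.pull i).obj G)).X₃,
        (EtCoh.pull i).map (injSeq G).g ≫ γ = cmpHom i G ≫ (injSeq ((EtCoh.pull i).obj G)).g →
        ∃ y, (injSeq ((EtCoh.pull i).obj G)).g.hom.app (op (EtCoh.top Y)) y =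
          γ.hom.app (op (EtCoh.top Y)) (rTop i _ q) - κ ψ₀) :
    ∃ x, EtCore.Hpull i G 1 x = cls (injSeq_shortExact _) ψ₀ := by
  obtain ⟨q, hq⟩ := h
  obtain ⟨ψ, rfl⟩ := (κ_bijective (injSeq G).X₃).2 q
  refine ⟨cls (injSeq_shortExact G) ψ, ?_⟩
  have hS₁ := (injSeq_shortExact G).map_of_exact (EtCoh.pull i)
  have hS₂ := injSeq_shortExact ((EtCoh.pull i).obj G)
  haveI := hS₁.epi_g
  obtain ⟨γ, hγ⟩ := CokernelCofork.IsColimit.desc' hS₁.gIsCokernel (cmpHom i G ≫ (injSeq ((EtCoh.pull i).obj G)).g) (by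
    rw [← Category.assoc]
    exact (congrArg (· ≫ (injSeq ((EtCoh.pull i).obj G)).g) (map_f_cmpHom i G)).trans
      (injSeq ((EtCoh.pull i).obj G)).zero)
  have hγ' : (EtCoh.pull i).map (injSeq G).g ≫ γ = cmpHom i G ≫ (injSeq ((EtCoh.pull i).obj G)).g := hγ
  let φ : (injSeq G).map (EtCoh.pull i) ⟶ injSeq ((EtCoh.pull i).obj G) :=
    { τ₁ := 𝟙 _
      τ₂ := cmpHom i G
      τ₃ := γ
      comm₁₂ := (Category.id_comp _).trans (map_f_cmpHom i G).symm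
      comm₂₃ := hγ'.symm }
  have hn := ShortComplex.ShortExact.extClass_naturality hS₁ hS₂ φ
  have h1 : cls hS₂ (pullHom i ψ ≫ γ) = EtCore.Hpull i (injSeq G).X₁ 1 (cls (injSeq_shortExact G) ψ) := by
    rw [Hpull_cls]
    unfold cls
    rw [← Ext.mk₀_comp_mk₀_assoc]
    erw [← hn]
    exact congrArg (fun e => (Ext.mk₀ (pullHom i ψ)).comp e (zero_add 1)) (Ext.comp_mk₀_id _)
  refine h1.symm.trans ?_
  rw [← sub_eq_zero, ← cls_sub, cls_eq_zero_iff_κ]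
  obtain ⟨y, hy⟩ := hq γ hγ'
  refine ⟨y, hy.trans ?_⟩
  rw [κ_sub, κ_comp, κ_pullHom]

end pull

end Groth.Agent.EtH1PBC
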